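import Mathlib

/-!
Arithmetic of the largest nilpotent subgroups of symmetric and alternating groups.
-/

set_option autoImplicit false

namespace Cfsg.Agent.NilPerm

open Nat Finset

/-- The exponent of two in `n!`. -/
def v (n : ℕ) : ℕ := (n !).factorization 2

/-- The bound for nilpotent subgroups of the symmetric group of degree `n`. -/
def g (n : ℕ) : ℕ := if n % 4 = 3 then 3 * 2 ^ (v n - 1) else 2 ^ v n

/-- The bound for nilpotent subgroups of the alternating group of degree `n`. -/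
def aBound (n : ℕ) : ℕ :=
  if n ≤ 1 then 1 else if n = 3 then 3 else if n = 5 then 5 else if n = 6 then 9
  else if n = 9 then 81 else g n / 2

/-- The bound for transitive nilpotent groups of degree `d`. -/
def T (d : ℕ) : ℕ := d.factorization.prod fun p e => p ^ ((p ^ e)!.factorization p)

theorem v_eq {n : ℕ} (b : ℕ) (h : n < 2 ^ b) : v n = ∑ i ∈ Ico 1 (b + 1), n / 2 ^ i := by
  refine Nat.factorization_factorial Nat.prime_two ?_
  rcases Nat.eq_zero_or_pos n with rfl | hn
  · simp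
  · exact (Nat.log_lt_of_lt_pow hn.ne' h).trans (Nat.lt_succ_self b)

theorem v_add (a b : ℕ) : v a + v b ≤ v (a + b) := by
  have h := (Nat.factorization_le_iff_dvd (mul_ne_zero a.factorial_ne_zero b.factorial_ne_zero)
    (a + b).factorial_ne_zero).2 (Nat.factorial_mul_factorial_dvd_factorial_add a b) 2
  rwa [Nat.factorization_mul a.factorial_ne_zero b.factorial_ne_zero, Finsupp.add_apply] at h

theorem v_mono {a b : ℕ} (h : a ≤ b) : v a ≤ v b := by
  obtain ⟨c, rfl⟩ := Nat.exists_eq_add_of_le h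
  exact le_trans (Nat.le_add_right _ _) (v_add a c)

theorem v_succ (n : ℕ) : v (n + 1) = (n + 1).factorization 2 + v n := by
  rw [v, v, factorial_succ, Nat.factorization_mul n.succ_ne_zero n.factorial_ne_zero,
    Finsupp.add_apply]

theorem fact_odd {n : ℕ} (h : n % 2 = 1) : n.factorization 2 = 0 :=
  Nat.factorization_eq_zero_of_not_dvd (by omega)

theorem fact_two_mod_four {n : ℕ} (h : n % 4 = 2) : n.factorization 2 = 1 := by
  obtain ⟨m, rfl⟩ : 2 ∣ n := by omega
  rw [Nat.factorization_mul two_ne_zero (by omega), Finsupp.add_apply,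
    Nat.prime_two.factorization_self, fact_odd (by omega)]

theorem one_le_fact {n : ℕ} (hn : n ≠ 0) (h : n % 2 = 0) : 1 ≤ n.factorization 2 :=
  (Nat.prime_two.dvd_iff_one_le_factorization hn).1 (by omega)

theorem two_le_fact {n : ℕ} (hn : n ≠ 0) (h : n % 4 = 0) : 2 ≤ n.factorization 2 := by
  refine (Nat.prime_two.pow_dvd_iff_le_factorization hn).1 ?_
  omega

theorem v_three_mod_four {n : ℕ} (h : n % 4 = 3) : v n = v (n - 3) + 1 := by
  obtain ⟨k, rfl⟩ : ∃ k, n = k + 3 := ⟨n - 3, by omega⟩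
  rw [Nat.add_sub_cancel, show k + 3 = k + 2 + 1 from rfl, v_succ, show k + 2 = k + 1 + 1 from rfl,
    v_succ, v_succ, fact_odd (by omega), fact_two_mod_four (n := k + 1 + 1) (by omega),
    fact_odd (n := k + 1) (by omega)]
  omega

theorem v_add_two {n : ℕ} (hn : 3 ≤ n) (h : n % 4 ≠ 3) : v (n - 3) + 2 ≤ v n := by
  obtain ⟨k, rfl⟩ : ∃ k, n = k + 3 := ⟨n - 3, by omega⟩
  rw [Nat.add_sub_cancel, show k + 3 = k + 2 + 1 from rfl, v_succ, show k + 2 = k + 1 + 1 from rfl,
    v_succ, v_succ]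
  rcases (show k % 4 = 1 ∨ k % 4 = 2 ∨ k % 4 = 3 by omega) with h | h | h
  · have := two_le_fact (n := k + 1 + 1 + 1) (by omega) (by omega)
    omega
  · have := two_le_fact (n := k + 1 + 1) (by omega) (by omega)
    omega
  · have := two_le_fact (n := k + 1) (by omega) (by omega)
    omega

theorem v_add_four {n : ℕ} (hn : 6 ≤ n) (h : n % 4 = 2) : v (n - 6) + 4 ≤ v n := by
  obtain ⟨k, rfl⟩ : ∃ k, n = k + 6 := ⟨n - 6, by omega⟩
  rw [Nat.add_sub_cancel, show k + 6 = k + 1 + 1 + 1 + 1 + 1 + 1 from rfl, v_succ, v_succ,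
    v_succ, v_succ, v_succ, v_succ]
  have h1 := fact_two_mod_four (n := k + 1 + 1) (by omega)
  have h2 := two_le_fact (n := k + 3 + 1) (by omega) (by omega)
  have h3 := fact_two_mod_four (n := k + 5 + 1) (by omega)
  omega

theorem g_of_ne {n : ℕ} (h : n % 4 ≠ 3) : g n = 2 ^ v n := if_neg h

theorem g_of_eq {n : ℕ} (h : n % 4 = 3) : g n = 3 * 2 ^ v (n - 3) := by
  rw [g, if_pos h, v_three_mod_four h, Nat.add_sub_cancel]

theorem two_pow_le_g (n : ℕ) : 2 ^ v n ≤ g n := by
  by_cases h : n % 4 = 3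
  · rw [g_of_eq h, v_three_mod_four h, pow_succ]
    omega
  · rw [g_of_ne h]

theorem g_pos (n : ℕ) : 0 < g n := lt_of_lt_of_le (pow_pos two_pos _) (two_pow_le_g n)

theorem g_add (a b : ℕ) : g a * g b ≤ g (a + b) := by
  by_cases ha : a % 4 = 3 <;> by_cases hb : b % 4 = 3
  · rw [g_of_eq ha, g_of_eq hb, g_of_ne (by omega)]
    have h1 := v_add_four (n := a + b) (by omega) (by omega)
    have h2 := v_add (a - 3) (b - 3)
    rw [show a - 3 + (b - 3) = a + b - 6 by omega] at h2
    have h3 : v (a - 3) + v (b - 3) + 4 ≤ v (a + b) := by omega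
    calc 3 * 2 ^ v (a - 3) * (3 * 2 ^ v (b - 3)) ≤ 2 ^ (v (a - 3) + v (b - 3)) * 16 := by
          rw [pow_add]; nlinarith [Nat.two_pow_pos (v (a - 3)), Nat.two_pow_pos (v (b - 3)),
            mul_pos (Nat.two_pow_pos (v (a - 3))) (Nat.two_pow_pos (v (b - 3)))]
      _ = 2 ^ (v (a - 3) + v (b - 3) + 4) := by ring
      _ ≤ _ := Nat.pow_le_pow_right two_pos h3
  · rw [g_of_eq ha, g_of_ne hb]
    by_cases hab : (a + b) % 4 = 3
    · rw [g_of_eq hab, mul_assoc, ← pow_add]
      refine Nat.mul_le_mul_left _ (Nat.pow_le_pow_right two_pos ?_)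
      rw [show a + b - 3 = a - 3 + b by omega]
      exact v_add _ _
    · rw [g_of_ne hab]
      have h1 := v_add_two (n := a + b) (by omega) hab
      have h2 := v_add (a - 3) b
      rw [show a - 3 + b = a + b - 3 by omega] at h2
      calc 3 * 2 ^ v (a - 3) * 2 ^ v b ≤ 2 ^ (v (a - 3) + v b) * 4 := by
            rw [pow_add]; nlinarith [mul_pos (Nat.two_pow_pos (v (a - 3))) (Nat.two_pow_pos (v b))]
        _ = 2 ^ (v (a - 3) + v b + 2) := by ring
        _ ≤ _ := Nat.pow_le_pow_right two_pos (by omega)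
  · rw [g_of_ne ha, g_of_eq hb]
    by_cases hab : (a + b) % 4 = 3
    · rw [g_of_eq hab, mul_left_comm, ← pow_add]
      refine Nat.mul_le_mul_left _ (Nat.pow_le_pow_right two_pos ?_)
      rw [show a + b - 3 = a + (b - 3) by omega]
      exact v_add _ _
    · rw [g_of_ne hab]
      have h1 := v_add_two (n := a + b) (by omega) hab
      have h2 := v_add a (b - 3)
      rw [show a + (b - 3) = a + b - 3 by omega] at h2
      calc 2 ^ v a * (3 * 2 ^ v (b - 3)) ≤ 2 ^ (v a + v (b - 3)) * 4 := by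
            rw [pow_add]; nlinarith [mul_pos (Nat.two_pow_pos (v a)) (Nat.two_pow_pos (v (b - 3)))]
        _ = 2 ^ (v a + v (b - 3) + 2) := by ring
        _ ≤ _ := Nat.pow_le_pow_right two_pos (by omega)
  · rw [g_of_ne ha, g_of_ne hb, ← pow_add]
    exact (Nat.pow_le_pow_right two_pos (v_add a b)).trans (two_pow_le_g _)

theorem g_zero : g 0 = 1 := by simp [g, v]
theorem g_one : g 1 = 1 := by simp [g, v]
theorem g_two : g 2 = 2 := by simp [g, v_eq 2 (show 2 < 2 ^ 2 by norm_num), Finset.sum_Ico_succ_top]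

theorem g_mono {a b : ℕ} (h : a ≤ b) : g a ≤ g b := by
  obtain ⟨c, rfl⟩ := Nat.exists_eq_add_of_le h
  exact le_trans (Nat.le_mul_of_pos_right _ (g_pos c)) (g_add a c)

theorem g_pow (q k : ℕ) : g q ^ k ≤ g (k * q) := by
  induction k with
  | zero => simp [g_zero]
  | succ k ih =>
    rw [pow_succ, add_mul, one_mul]
    exact (Nat.mul_le_mul_right _ ih).trans (g_add _ _)

theorem two_mul_g_le (n : ℕ) : 2 * g n ≤ g (n + 2) := by
  have := g_add n 2
  rwa [g_two, mul_comm] at this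

/-- The exponent of `p` in `(p ^ e)!`. -/
def vp (p e : ℕ) : ℕ := (p ^ e)!.factorization p

theorem vp_succ {p : ℕ} (hp : p.Prime) (e : ℕ) : vp p (e + 1) = vp p e + p ^ e := by
  rw [vp, vp, pow_succ', Nat.factorization_factorial_mul hp]

theorem vp_zero (p : ℕ) : vp p 0 = 0 := by simp [vp]

theorem vp_succ' {p : ℕ} (hp : p.Prime) (e : ℕ) : vp p (e + 1) = p * vp p e + 1 := by
  induction e with
  | zero => simp [vp_succ hp, vp_zero]
  | succ e ih =>
    have h1 := vp_succ hp (e + 1)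
    have h2 := vp_succ hp e
    calc vp p (e + 1 + 1) = vp p (e + 1) + p * p ^ e := by rw [h1, pow_succ']
      _ = p * (vp p e + p ^ e) + 1 := by rw [ih]; ring
      _ = _ := by rw [← h2]

theorem vp_one {p : ℕ} (hp : p.Prime) : vp p 1 = 1 := by
  rw [show (1 : ℕ) = 0 + 1 from rfl, vp_succ hp, vp_zero, pow_zero]

theorem g_seven_le {n : ℕ} (hn : 7 ≤ n) : 2 * n ≤ g n := by
  induction n using Nat.strong_induction_on with
  | _ n ih =>
    rcases Nat.lt_or_ge n 9 with h | h
    · interval_cases n <;> simp [g, v_eq 4 (show 7 < 2 ^ 4 by norm_num),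
        v_eq 4 (show 8 < 2 ^ 4 by norm_num), Finset.sum_Ico_succ_top]
    · obtain ⟨k, rfl⟩ : ∃ k, n = k + 2 := ⟨n - 2, by omega⟩
      have := two_mul_g_le k
      have := ih k (by omega) (by omega)
      omega

theorem odd_prime_pow {p e : ℕ} (hp : p.Prime) (hp2 : p ≠ 2) (he : 0 < e) :
    p ^ e = 3 ∨ p ^ e = 5 ∨ p ^ e = 9 ∨ 2 * p ^ vp p e ≤ g (p ^ e) := by
  have h3 : 3 ≤ p := by have := hp.two_le; omega
  have step : ∀ e, 2 * p ^ vp p e ≤ g (p ^ e) → 2 * p ^ vp p (e + 1) ≤ g (p ^ (e + 1)) := by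
    intro e h
    have h1 : 2 * p ≤ 2 ^ p := by
      clear hp hp2 he h
      induction p, h3 using Nat.le_induction with
      | base => norm_num
      | succ m hm ih => rw [pow_succ]; omega
    calc 2 * p ^ vp p (e + 1) = (2 * p) * (p ^ vp p e) ^ p := by
          rw [vp_succ' hp, pow_succ, ← pow_mul, mul_comm p (vp p e)]; ring
      _ ≤ 2 ^ p * (p ^ vp p e) ^ p := Nat.mul_le_mul_right _ h1
      _ = (2 * p ^ vp p e) ^ p := (mul_pow _ _ _).symm
      _ ≤ g (p ^ e) ^ p := Nat.pow_le_pow_left h p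
      _ ≤ g (p * p ^ e) := g_pow _ _
      _ = g (p ^ (e + 1)) := by rw [pow_succ']
  have base : ∀ e₀, 2 * p ^ vp p e₀ ≤ g (p ^ e₀) → e₀ ≤ e → 2 * p ^ vp p e ≤ g (p ^ e) := by
    intro e₀ h0 hle
    induction e, hle using Nat.le_induction with
    | base => exact h0
    | succ m hm ih =>
      exact step m (ih (by
        rcases Nat.eq_zero_or_pos m with rfl | hm0
        · obtain rfl : e₀ = 0 := by omega
          simp [vp_zero, g_one] at h0
        · exact hm0))
  rcases Nat.lt_or_ge p 7 with hlt | hge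
  · have h35 : p = 3 ∨ p = 5 := by
      interval_cases p <;> first | omega | exact absurd hp (by norm_num)
    rcases h35 with rfl | rfl
    · rcases (show e = 1 ∨ e = 2 ∨ 3 ≤ e by omega) with rfl | rfl | h
      · norm_num
      · norm_num
      · refine Or.inr (Or.inr (Or.inr (base 3 ?_ h)))
        simp [vp_succ hp, vp_zero, g, v_eq 5 (show 27 < 2 ^ 5 by norm_num),
          Finset.sum_Ico_succ_top]
    · rcases (show e = 1 ∨ 2 ≤ e by omega) with rfl | h
      · norm_num
      · refine Or.inr (Or.inr (Or.inr (base 2 ?_ h)))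
        simp [vp_succ hp, vp_zero, g, v_eq 5 (show 25 < 2 ^ 5 by norm_num),
          Finset.sum_Ico_succ_top]
  · refine Or.inr (Or.inr (Or.inr (base 1 ?_ he)))
    simpa [vp_succ hp, vp_zero] using g_seven_le hge

theorem T_one : T 1 = 1 := by simp [T]

theorem T_prime_pow {p e : ℕ} (hp : p.Prime) (he : 0 < e) : T (p ^ e) = p ^ vp p e := by
  rw [T, hp.factorization_pow, Finsupp.prod_single_index]
  · rfl
  · simp

theorem T_mul {a b : ℕ} (hab : Nat.Coprime a b) : T (a * b) = T a * T b := by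
  rw [T, Nat.factorization_mul_of_coprime hab,
    Finsupp.prod_add_index_of_disjoint (by simpa using hab.disjoint_primeFactors)]
  rfl

theorem T_le (d : ℕ) :
    T d ≤ g d ∧ ((∀ k, d ≠ 2 ^ k) → d ≤ 1 ∨ d = 3 ∨ d = 5 ∨ d = 9 ∨ 2 * T d ≤ g d) := by
  induction d using Nat.recOnPosPrimePosCoprime with
  | prime_pow p e hp he =>
    rw [T_prime_pow hp he]
    rcases eq_or_ne p 2 with rfl | hp2
    · refine ⟨?_, fun h => absurd rfl (h e)⟩
      exact two_pow_le_g _
    · rcases odd_prime_pow hp hp2 he with h | h | h | h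
      · refine ⟨?_, fun _ => Or.inr (Or.inl h)⟩
        obtain ⟨rfl, rfl⟩ : p = 3 ∧ e = 1 := by
          have h' := (Nat.prime_dvd_prime_iff_eq hp Nat.prime_three).1 (h ▸ dvd_pow_self p he.ne')
          subst h'
          exact ⟨rfl, Nat.pow_right_injective (by norm_num) (h.trans (pow_one 3).symm)⟩
        simp [vp_succ hp, vp_zero, g, v_eq 2 (show 3 < 2 ^ 2 by norm_num), Finset.sum_Ico_succ_top]
      · refine ⟨?_, fun _ => Or.inr (Or.inr (Or.inl h))⟩
        obtain ⟨rfl, rfl⟩ : p = 5 ∧ e = 1 := by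
          have h' := (Nat.prime_dvd_prime_iff_eq hp Nat.prime_five).1 (h ▸ dvd_pow_self p he.ne')
          subst h'
          exact ⟨rfl, Nat.pow_right_injective (by norm_num) (h.trans (pow_one 5).symm)⟩
        simp [vp_succ hp, vp_zero, g, v_eq 3 (show 5 < 2 ^ 3 by norm_num), Finset.sum_Ico_succ_top]
      · refine ⟨?_, fun _ => Or.inr (Or.inr (Or.inr (Or.inl h)))⟩
        obtain ⟨rfl, rfl⟩ : p = 3 ∧ e = 2 := by
          have h' : p ∣ 3 ^ 2 := by rw [show (3 : ℕ) ^ 2 = 9 by norm_num, ← h]; exact dvd_pow_self p he.ne'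
          have h'' := (Nat.prime_dvd_prime_iff_eq hp Nat.prime_three).1 (hp.dvd_of_dvd_pow h')
          subst h''
          exact ⟨rfl, Nat.pow_right_injective (by norm_num) (h.trans (by norm_num : (9 : ℕ) = 3 ^ 2))⟩
        simp [vp_succ hp, vp_zero, g, v_eq 4 (show 9 < 2 ^ 4 by norm_num), Finset.sum_Ico_succ_top]
      · exact ⟨le_trans (by omega) h, fun _ => Or.inr (Or.inr (Or.inr (Or.inr h)))⟩
  | zero => simp [T, g_zero]
  | one => simp [T_one, g_one]
  | coprime a b ha hb hab iha ihb =>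
    rw [T_mul hab]
    have h0 : T a * T b ≤ g (a + b) := (Nat.mul_le_mul iha.1 ihb.1).trans (g_add a b)
    have hle : a + b ≤ a * b := by nlinarith
    refine ⟨h0.trans (g_mono hle), fun _ => Or.inr (Or.inr (Or.inr (Or.inr ?_)))⟩
    have hne : a ≠ b := by
      rintro rfl
      rw [Nat.coprime_self] at hab
      omega
    rcases (show (a = 2 ∧ b = 3) ∨ (a = 3 ∧ b = 2) ∨ a + b + 2 ≤ a * b by
      rcases Nat.lt_or_ge a 4 with h | h
      · rcases Nat.lt_or_ge b 4 with h' | h'
        · interval_cases a <;> interval_cases b <;> simp_all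
        · right; right; nlinarith
      · right; right; nlinarith) with ⟨rfl, rfl⟩ | ⟨rfl, rfl⟩ | h
    · have h2 : T 2 = 2 := by
        simpa [vp_one Nat.prime_two] using T_prime_pow Nat.prime_two one_pos
      have h3 : T 3 = 3 := by
        simpa [vp_one Nat.prime_three] using T_prime_pow Nat.prime_three one_pos
      simp [h2, h3, g, v_eq 3 (show 6 < 2 ^ 3 by norm_num), Finset.sum_Ico_succ_top]
    · have h2 : T 2 = 2 := by
        simpa [vp_one Nat.prime_two] using T_prime_pow Nat.prime_two one_pos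
      have h3 : T 3 = 3 := by
        simpa [vp_one Nat.prime_three] using T_prime_pow Nat.prime_three one_pos
      simp [h2, h3, g, v_eq 3 (show 6 < 2 ^ 3 by norm_num), Finset.sum_Ico_succ_top]
    · exact ((Nat.mul_le_mul_left 2 h0).trans (two_mul_g_le _)).trans (g_mono h)

theorem aBound_pos (n : ℕ) : 1 ≤ aBound n := by
  unfold aBound
  split_ifs with h1 h2 h3 h4 h5 <;> try norm_num
  rw [Nat.le_div_iff_mul_le two_pos, one_mul, ← g_two]
  exact g_mono (by omega)

theorem half_g_le_aBound (n : ℕ) : g n / 2 ≤ aBound n := by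
  unfold aBound
  split_ifs with h1 h2 h3 h4 h5
  · interval_cases n <;> simp [g_zero, g_one]
  all_goals try subst n
  all_goals simp [g, v_eq 4 (show 3 < 2 ^ 4 by norm_num), v_eq 4 (show 5 < 2 ^ 4 by norm_num),
    v_eq 4 (show 6 < 2 ^ 4 by norm_num), v_eq 4 (show 9 < 2 ^ 4 by norm_num),
    Finset.sum_Ico_succ_top]

theorem T_mul_aBound {d : ℕ} (hd : d = 3 ∨ d = 5 ∨ d = 9) (m : ℕ) :
    T d * aBound m ≤ aBound (d + m) := by
  have hT3 : T 3 = 3 := by
    simpa [vp_one Nat.prime_three] using T_prime_pow Nat.prime_three one_pos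
  have hT5 : T 5 = 5 := by
    simpa [vp_one Nat.prime_five] using T_prime_pow Nat.prime_five one_pos
  have hT9 : T 9 = 81 := by
    simpa [vp_succ Nat.prime_three, vp_zero] using T_prime_pow Nat.prime_three (show 0 < 2 by norm_num)
  by_cases hm : m ≤ 1 ∨ m = 3 ∨ m = 5 ∨ m = 6 ∨ m = 9
  · obtain ⟨hm', hm''⟩ : m ≤ 9 ∧ d + m ≤ 18 := by omega
    rcases hd with rfl | rfl | rfl <;> interval_cases m <;>
      first | omega | simp [aBound, hT3, hT5, hT9, g, v_eq 5 (show 3 < 2 ^ 5 by norm_num),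
        v_eq 5 (show 4 < 2 ^ 5 by norm_num), v_eq 5 (show 8 < 2 ^ 5 by norm_num),
        v_eq 5 (show 10 < 2 ^ 5 by norm_num), v_eq 5 (show 11 < 2 ^ 5 by norm_num),
        v_eq 5 (show 12 < 2 ^ 5 by norm_num), v_eq 5 (show 14 < 2 ^ 5 by norm_num),
        v_eq 5 (show 15 < 2 ^ 5 by norm_num), v_eq 5 (show 18 < 2 ^ 5 by norm_num),
        Finset.sum_Ico_succ_top]
  · refine le_trans ?_ (half_g_le_aBound (d + m))
    rw [Nat.le_div_iff_mul_le two_pos]
    have ha : aBound m * 2 ≤ g m := by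
      simp only [not_or] at hm
      rw [aBound, if_neg hm.1, if_neg hm.2.1, if_neg hm.2.2.1, if_neg hm.2.2.2.1,
        if_neg hm.2.2.2.2]
      exact Nat.div_mul_le_self _ _
    calc T d * aBound m * 2 = T d * (aBound m * 2) := mul_assoc _ _ _
      _ ≤ g d * g m := Nat.mul_le_mul (T_le d).1 ha
      _ ≤ g (d + m) := g_add d m

end Cfsg.Agent.NilPerm
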